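import Cfsg.Agent.Spor.C3E.D0

set_option autoImplicit false
set_option maxRecDepth 100000000
set_option Elab.async false

namespace Cfsg.Agent.Spor.C3E

theorem ok0 : Net.okb 4 n0 = true := by decide +kernel

theorem ok1 : Net.okb 4 n1 = true := by decide +kernel

theorem ok2 : Net.okb 4 n2 = true := by decide +kernel

theorem ok3 : Net.okb 4 n3 = true := by decide +kernel

theorem ok4 : Net.okb 4 n4 = true := by decide +kernel

theorem rel0 : T.rel 4 [1, 1] 0 4 = true := by decide +kernel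

theorem rel1 : T.rel 4 [2, 2] 0 4 = true := by decide +kernel

theorem rel2 : T.rel 4 [3, 3] 0 4 = true := by decide +kernel

theorem rel3 : T.rel 4 [4, 4] 0 4 = true := by decide +kernel

theorem rel4 : T.rel 4 [5, 5] 0 4 = true := by decide +kernel

theorem rel5 : T.rel 4 [3, 2, 3, 2, 3, 2, 3, 2] 0 4 = true := by decide +kernel

theorem rel6 : T.rel 4 [4, 2, 4, 2, 4, 2, 4, 2, 4, 2, 4, 2] 0 4 = true := by decide +kernel

theorem rel7 : T.rel 4 [4, 3, 4, 3, 4, 3, 4, 3] 0 4 = true := by decide +kernel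

theorem rel8 : T.rel 4 [2, 3, 2, 3, 4, 2, 3, 2, 3, 4, 3, 2, 3, 2, 4] 0 4 = true := by decide +kernel

theorem rel9 : T.rel 4 [2, 3, 4, 2, 3, 4, 3, 4, 2, 4, 2, 3, 4, 3, 4, 2, 4, 3, 2, 4, 3, 4] 0 4 = true := by decide +kernel

theorem rel10 : T.rel 4 [2, 3, 2, 4, 2, 4, 2, 3, 4, 2, 3, 4, 2, 3, 4, 2, 3, 4, 2, 3, 4, 3, 2, 3, 4] 0 4 = true := by decide +kernel

theorem rel11 : T.rel 4 [2, 1, 2, 1, 2, 1, 2, 1] 0 4 = true := by decide +kernel

theorem rel12 : T.rel 4 [4, 1, 4, 1, 4, 1, 4, 1, 4, 1, 4, 1] 0 4 = true := by decide +kernel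

theorem rel13 : T.rel 4 [1, 2, 1, 2, 4, 1, 4, 2, 1, 2, 1, 4, 1, 4] 0 4 = true := by decide +kernel

theorem rel14 : T.rel 4 [1, 2, 1, 4, 1, 2, 4, 2, 1, 4, 2, 4, 1, 4, 2, 4, 1, 2, 4, 1, 4, 2, 4] 0 4 = true := by decide +kernel

theorem rel15 : T.rel 4 [1, 2, 4, 1, 2, 4, 1, 2, 4, 1, 2, 4, 1, 2, 4, 1, 2, 4] 0 4 = true := by decide +kernel

theorem rel16 : T.rel 4 [3, 2, 4, 2, 4, 2, 3, 5] 0 4 = true := by decide +kernel

theorem rel17 : T.rel 4 [1, 2, 4, 2, 4, 1, 4, 2, 4, 2, 5] 0 4 = true := by decide +kernel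

theorem rel18 : T.rel 4 [2, 4, 3, 4, 3, 2, 4, 3, 4, 3, 2, 3, 1, 3, 1, 3, 1] 0 4 = true := by decide +kernel

theorem hcov : T.treeCov (ones 15) L 1 = true := by decide +kernel

theorem hg : lall (fun z => band (memL L z) (band (sub (ones 15) (T.let z).cl) (T.closed (ones 15) z))) gs = true := by decide +kernel

theorem hivk : ivOk (2 * 5) EX IV = true := by decide +kernel

theorem hrt : RT.ok (2 * 5) EX RL = true := by decide +kernel

theorem hdefs : defs F 70 = true := by decide +kernel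

noncomputable def st0_l : List Nat := [nat_lit 0x3ff, nat_lit 0x3ff, nat_lit 0x3ff, nat_lit 0x400000000478002340011e00091000478002440011a0008f0004880023c001220008d0000080000c10, nat_lit 0x8e0004600024000118000900004600023c07, nat_lit 0x1c0000d0000000011a000010000d80007407, nat_lit 0xf0000680000000095000468002440011a00091000008000140a, nat_lit 0x1a000090000380001a000028002600003c0001d000118000c40a, nat_lit 0x320001a80026c00060000220000e00007c00132000040000d8000840b, nat_lit 0x2a0004e0000c803, nat_lit 0x4f0000a802, nat_lit 0x1100005c000220000e000068000000008d000488000040000a00098000138000dc0d, nat_lit 0x250000d80004c0001e0000e80025c000380001f0004c8000100000000091000468000040000a000980000f00007400046000310004d00012416, nat_lit 0x290000e80004c000990000200006c0003e000270001c80013c0a, nat_lit 0x500002980029c0009c000380001300007800034000050004c0000a40b, nat_lit 0x3c0005400014003, nat_lit 0x550000f002, nat_lit 0x5a000210000b000140000350002480029007,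 nat_lit 0x4c0001c0000980003c0001d000118000bc0008a000a3000258002b80b, nat_lit 0x170000b6000af000250000d80004c0001e0000d000000001220008d0000080001400130000270001c80013c11, nat_lit 0x540002980029c001640005c0002d8002bc00094000360001c800134001620005a0002e8002cc0009c000380001b800288000880002e0001880011c17, nat_lit 0x5a00015002, nat_lit 0x2b0000f800158000b60002300026800092000a400057000168000ba000b3000530001480e, nat_lit 0x570005c8002b403, nat_lit 0x5d0000f802, nat_lit 0x58000200002b0000a6000a700027000134001620005a0002e8002cc0014c000520005b00011800060000220000e00007c00132000040000000023417, nat_lit 0x590005f80000403, nat_lit 0x410006080001403, nat_lit 0x132000c20005e80030c04, nat_lit 0x1f0006280001003, nat_lit 0xd80031c02, nat_lit 0xa0000300000800190000030000380002c07, nat_lit 0x20003200000000095000468002440011a00091000008000140a, nat_lit 0x640000140019a00004000000002440011a00091000468000040a, nat_lit 0x200000000118000010000280033000008000000004800023000002000050006600001000000000900004600024000002000c80000280033416,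 nat_lit 0x20006400001400198000040006480000c07, nat_lit 0x660000100019000005000680000100019000005000660003440a, nat_lit 0xc000030000080019c000030000380003407, nat_lit 0x68003580001800006000490003480000e0000d0006b8000300a, nat_lit 0x66000300001780000e0000d0006b8000300000c0005f0003080019c0b, nat_lit 0x1400005000018000be000610003380036c07, nat_lit 0x6e00032000180000bc000070000680035c07, nat_lit 0x3800036c000cc000600002f00024c000be000610003380036c0a, nat_lit 0x7400034000188000bc000020000280002407, nat_lit 0x1c8000d0000620002f000008001900000300049000008000000008e000008003200000a00009000710001d011, nat_lit 0x720001c802, nat_lit 0x410001d8000d4000640003000017800004000c90000180001c0001a000d70006f0001f40e, nat_lit 0x10c0007a000360001ac000ee00083000748001f0001be0000c0000300000800192000050006680001000192000030002f800184000ca0006d0003c80021418, nat_lit 0x48001c40007400034000188000c2000670006d000198000ca0006d0003d80021c001d6000840003c0001b0000c8000670006d80037015,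 nat_lit 0xec00009000020001aa00009000098003b407, nat_lit 0x100000e3000098003b4001de000dd000700001fc08, nat_lit 0x7800020002, nat_lit 0xf30003a000398000ea000e300004000330000120001300076800374001b4000dc000770003b00f, nat_lit 0xf20007a80004803, nat_lit 0x750007b80002003, nat_lit 0x690007c80001003, nat_lit 0x630007d80000c03, nat_lit 0x2f8003f402, nat_lit 0x80000200000c001fc000020000280002407, nat_lit 0xd600006000018001fc000070000580005407, nat_lit 0x6b0000300000c000fe000490003f80000e0000d0006b80005c0a, nat_lit 0x8100003000016000ca00005000018001fc000020006480000c0000e0000d0006b80040c0e, nat_lit 0x20000080006600002400200000080000200032000006000fe000010000140019a000d10000480004410, nat_lit 0x4080001800006000010000140019800004000018003f800004000c80000280033000008000030007f00000800192000050000480004c15, nat_lit 0x1040008180041800216000120008000004c07, nat_lit 0x14000d8000030003f800004000050000480004c00214001020000600002c001960000a0006c80002c10,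 nat_lit 0x45000220001960010f0000a80041c0021600012000808000440a, nat_lit 0x228001100000a000030003fc000040000500066800024002020001300085000408000180000b0006580022400116001110008480044015, nat_lit 0x180000700002c00194000890004580044407, nat_lit 0x43400214001020006b0000300000c000fe00001000014000120001300085000408001ac0000c0000580022400116001130008880045015, nat_lit 0x44000328001120008b0008980044400212001100004500022000014000060007f8000080000a000cd00004800404000260010c0008b80006016, nat_lit 0x4480046402]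
theorem st0 : band (steps F IV RT base st0_l 70) (Nat.beq (Nat.add 70 (llen st0_l)) 142) = true := by decide +kernel

theorem rot1_1 : T.rot 1 [1] (sel (ones 15) ip1 1) = true := by decide +kernel

theorem rot1_1r : band (Rule.ok (2 * 5) EX RL ⟨1 :: [1], [], 14, false⟩) (lall (memL L) [1]) = true := by decide +kernel

theorem rot1_2 : T.rot 1 [4, 2, 4, 2, 5, 1, 2, 4, 2, 4] (sel (ones 15) ip1 2) = true := by decide +kernel

theorem rot1_2r : band (Rule.ok (2 * 5) EX RL ⟨1 :: [4, 2, 4, 2, 5, 1, 2, 4, 2, 4], [0, 2, 6, 2, 6], 12, true⟩) (lall (memL L) [4, 2, 4, 2, 5, 1, 2, 4, 2, 4]) = true := by decide +kernel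

theorem rot1_3 : T.rot 1 [4, 2, 4, 2, 1, 5, 2, 4, 2, 4] (sel (ones 15) ip1 3) = true := by decide +kernel

theorem rot1_3r : band (Rule.ok (2 * 5) EX RL ⟨1 :: [4, 2, 4, 2, 1, 5, 2, 4, 2, 4], [8, 2, 6, 2, 6], 12, false⟩) (lall (memL L) [4, 2, 4, 2, 1, 5, 2, 4, 2, 4]) = true := by decide +kernel

theorem rot1_4 : T.rot 1 [5, 2, 4, 2, 4, 1, 4, 2, 4, 2] (sel (ones 15) ip1 4) = true := by decide +kernel

theorem rot1_4r : band (Rule.ok (2 * 5) EX RL ⟨1 :: [5, 2, 4, 2, 4, 1, 4, 2, 4, 2], [0], 12, false⟩) (lall (memL L) [5, 2, 4, 2, 4, 1, 4, 2, 4, 2]) = true := by decide +kernel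

theorem rot1_5 : T.rot 1 [3, 1, 2, 4, 3, 4, 3, 2, 4, 3, 4, 3, 2, 3, 1, 3] (sel (ones 15) ip1 5) = true := by decide +kernel

theorem rot1_5r : band (Rule.ok (2 * 5) EX RL ⟨1 :: [3, 1, 2, 4, 3, 4, 3, 2, 4, 3, 4, 3, 2, 3, 1, 3], [0, 4, 0], 13, true⟩) (lall (memL L) [3, 1, 2, 4, 3, 4, 3, 2, 4, 3, 4, 3, 2, 3, 1, 3]) = true := by decide +kernel

theorem rot1_6 : T.rot 1 [3, 1, 3, 1, 3, 2, 3, 4, 3, 4, 2, 3, 4, 3, 4, 2] (sel (ones 15) ip1 6) = true := by decide +kernel

theorem rot1_6r : band (Rule.ok (2 * 5) EX RL ⟨1 :: [3, 1, 3, 1, 3, 2, 3, 4, 3, 4, 2, 3, 4, 3, 4, 2], [], 13, false⟩) (lall (memL L) [3, 1, 3, 1, 3, 2, 3, 4, 3, 4, 2, 3, 4, 3, 4, 2]) = true := by decide +kernel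

theorem rot1_7 : T.rot 1 [2, 4, 2, 1, 4, 2, 4, 1, 4, 2, 4, 1, 2, 4, 1, 4, 2, 4, 1, 2, 1, 4] (sel (ones 15) ip1 7) = true := by decide +kernel

theorem rot1_7r : band (Rule.ok (2 * 5) EX RL ⟨1 :: [2, 4, 2, 1, 4, 2, 4, 1, 4, 2, 4, 1, 2, 4, 1, 4, 2, 4, 1, 2, 1, 4], [0, 2, 0, 6], 9, true⟩) (lall (memL L) [2, 4, 2, 1, 4, 2, 4, 1, 4, 2, 4, 1, 2, 4, 1, 4, 2, 4, 1, 2, 1, 4]) = true := by decide +kernel

theorem cov1 : T.cover 1 [(sel (ones 15) ip1 1), (sel (ones 15) ip1 2), (sel (ones 15) ip1 3), (sel (ones 15) ip1 4), (sel (ones 15) ip1 5), (sel (ones 15) ip1 6), (sel (ones 15) ip1 7)] = true := by decide +kernel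

theorem tl1 : T.treeLt 4 1 = true := by decide +kernel

theorem rot2_1 : T.rot 2 [2] (sel (ones 15) ip2 1) = true := by decide +kernel

theorem rot2_1r : band (Rule.ok (2 * 5) EX RL ⟨2 :: [2], [], 14, false⟩) (lall (memL L) [2]) = true := by decide +kernel

theorem rot2_2 : T.rot 2 [3, 2, 3, 2, 3, 2, 3] (sel (ones 15) ip2 2) = true := by decide +kernel

theorem rot2_2r : band (Rule.ok (2 * 5) EX RL ⟨2 :: [3, 2, 3, 2, 3, 2, 3], [], 0, false⟩) (lall (memL L) [3, 2, 3, 2, 3, 2, 3]) = true := by decide +kernel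

theorem rot2_3 : T.rot 2 [4, 2, 3, 5, 3, 2, 4] (sel (ones 15) ip2 3) = true := by decide +kernel

theorem rot2_3r : band (Rule.ok (2 * 5) EX RL ⟨2 :: [4, 2, 3, 5, 3, 2, 4], [4, 2, 6], 11, true⟩) (lall (memL L) [4, 2, 3, 5, 3, 2, 4]) = true := by decide +kernel

theorem rot2_4 : T.rot 2 [4, 1, 4, 2, 4, 2, 5, 1, 2, 4] (sel (ones 15) ip2 4) = true := by decide +kernel

theorem rot2_4r : band (Rule.ok (2 * 5) EX RL ⟨2 :: [4, 1, 4, 2, 4, 2, 5, 1, 2, 4], [0, 2, 6], 12, true⟩) (lall (memL L) [4, 1, 4, 2, 4, 2, 5, 1, 2, 4]) = true := by decide +kernel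

theorem rot2_5 : T.rot 2 [4, 2, 5, 1, 2, 4, 2, 4, 1, 4] (sel (ones 15) ip2 5) = true := by decide +kernel

theorem rot2_5r : band (Rule.ok (2 * 5) EX RL ⟨2 :: [4, 2, 5, 1, 2, 4, 2, 4, 1, 4], [8, 2, 6, 2], 12, true⟩) (lall (memL L) [4, 2, 5, 1, 2, 4, 2, 4, 1, 4]) = true := by decide +kernel

theorem rot2_6 : T.rot 2 [3, 4, 2, 3, 2, 3, 4, 3, 2, 3, 2, 4, 2, 3] (sel (ones 15) ip2 6) = true := by decide +kernel

theorem rot2_6r : band (Rule.ok (2 * 5) EX RL ⟨2 :: [3, 4, 2, 3, 2, 3, 4, 3, 2, 3, 2, 4, 2, 3], [2, 4], 3, true⟩) (lall (memL L) [3, 4, 2, 3, 2, 3, 4, 3, 2, 3, 2, 4, 2, 3]) = true := by decide +kernel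

theorem rot2_7 : T.rot 2 [4, 3, 4, 3, 2, 4, 3, 2, 4, 3, 4, 2, 3, 4, 2, 4, 3, 4, 3, 2, 4] (sel (ones 15) ip2 7) = true := by decide +kernel

theorem rot2_7r : band (Rule.ok (2 * 5) EX RL ⟨2 :: [4, 3, 4, 3, 2, 4, 3, 2, 4, 3, 4, 2, 3, 4, 2, 4, 3, 4, 3, 2, 4], [2, 4, 6, 2, 4, 6, 4, 6, 2], 4, false⟩) (lall (memL L) [4, 3, 4, 3, 2, 4, 3, 2, 4, 3, 4, 2, 3, 4, 2, 4, 3, 4, 3, 2, 4]) = true := by decide +kernel

theorem rot2_8 : T.rot 2 [1, 4, 1, 2, 4, 2, 1, 4, 2, 4, 1, 4, 2, 4, 1, 2, 4, 1, 4, 2, 4, 1] (sel (ones 15) ip2 8) = true := by decide +kernel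

theorem rot2_8r : band (Rule.ok (2 * 5) EX RL ⟨2 :: [1, 4, 1, 2, 4, 2, 1, 4, 2, 4, 1, 4, 2, 4, 1, 2, 4, 1, 4, 2, 4, 1], [0], 9, true⟩) (lall (memL L) [1, 4, 1, 2, 4, 2, 1, 4, 2, 4, 1, 4, 2, 4, 1, 2, 4, 1, 4, 2, 4, 1]) = true := by decide +kernel

theorem ep0a : T.treePath [1] (Nat.shiftLeft 1 1) 1 = true := by decide +kernel

theorem ep0b : T.treePath [1] (Nat.shiftLeft 1 1) 1 = true := by decide +kernel

theorem ep0c : band (lall (fun z => Nat.ble z 255) ([1] ++ 2 :: [1])) (concl F IV 142 0x10006400000003 (encA ([1] ++ 2 :: [1]) 0)) = true := by decide +kernel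

theorem ep0d : band (Rule.ok (2 * 5) EX [] ⟨lapp [1] [1], [], 0, false⟩) (band (lall (memL L) [1]) (lall (memL L) [1])) = true := by decide +kernel

theorem cov2 : T.cover 2 [(sel (ones 15) ip2 1), (sel (ones 15) ip2 2), (sel (ones 15) ip2 3), (sel (ones 15) ip2 4), (sel (ones 15) ip2 5), (sel (ones 15) ip2 6), (sel (ones 15) ip2 7), (sel (ones 15) ip2 8), 1, (Nat.shiftLeft 1 1)] = true := by decide +kernel

theorem tl2 : T.treeLt 4 2 = true := by decide +kernel

theorem rot3_1 : T.rot 3 [3] (sel (ones 15) ip3 1) = true := by decide +kernel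

theorem rot3_1r : band (Rule.ok (2 * 5) EX RL ⟨3 :: [3], [], 14, false⟩) (lall (memL L) [3]) = true := by decide +kernel

theorem rot3_2 : T.rot 3 [2, 4, 2, 4, 2, 3, 5] (sel (ones 15) ip3 2) = true := by decide +kernel

theorem rot3_2r : band (Rule.ok (2 * 5) EX RL ⟨3 :: [2, 4, 2, 4, 2, 3, 5], [], 11, true⟩) (lall (memL L) [2, 4, 2, 4, 2, 3, 5]) = true := by decide +kernel

theorem rot3_3 : T.rot 3 [5, 3, 2, 4, 2, 4, 2] (sel (ones 15) ip3 3) = true := by decide +kernel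

theorem rot3_3r : band (Rule.ok (2 * 5) EX RL ⟨3 :: [5, 3, 2, 4, 2, 4, 2], [4], 11, false⟩) (lall (memL L) [5, 3, 2, 4, 2, 4, 2]) = true := by decide +kernel

theorem rot3_4 : T.rot 3 [2, 4, 2, 3, 2, 3, 4, 2, 3, 2, 3, 4, 3, 2] (sel (ones 15) ip3 4) = true := by decide +kernel

theorem rot3_4r : band (Rule.ok (2 * 5) EX RL ⟨3 :: [2, 4, 2, 3, 2, 3, 4, 2, 3, 2, 3, 4, 3, 2], [6, 2, 4], 3, true⟩) (lall (memL L) [2, 4, 2, 3, 2, 3, 4, 2, 3, 2, 3, 4, 3, 2]) = true := by decide +kernel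

theorem rot3_5 : T.rot 3 [1, 3, 1, 2, 4, 3, 4, 3, 2, 4, 3, 4, 3, 2, 3, 1] (sel (ones 15) ip3 5) = true := by decide +kernel

theorem rot3_5r : band (Rule.ok (2 * 5) EX RL ⟨3 :: [1, 3, 1, 2, 4, 3, 4, 3, 2, 4, 3, 4, 3, 2, 3, 1], [0, 4, 0, 4], 13, true⟩) (lall (memL L) [1, 3, 1, 2, 4, 3, 4, 3, 2, 4, 3, 4, 3, 2, 3, 1]) = true := by decide +kernel

theorem cov3 : T.cover 3 [(sel (ones 15) ip3 1), (sel (ones 15) ip3 2), (sel (ones 15) ip3 3), (sel (ones 15) ip3 4), (sel (ones 15) ip3 5), 1] = true := by decide +kernel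

theorem tl3 : T.treeLt 4 3 = true := by decide +kernel

theorem rot4_1 : T.rot 4 [4] (sel (ones 15) ip4 1) = true := by decide +kernel

theorem rot4_1r : band (Rule.ok (2 * 5) EX RL ⟨4 :: [4], [], 14, false⟩) (lall (memL L) [4]) = true := by decide +kernel

theorem rot4_2 : T.rot 4 [3, 4, 3, 4, 3, 4, 3] (sel (ones 15) ip4 2) = true := by decide +kernel

theorem rot4_2r : band (Rule.ok (2 * 5) EX RL ⟨4 :: [3, 4, 3, 4, 3, 4, 3], [], 2, true⟩) (lall (memL L) [3, 4, 3, 4, 3, 4, 3]) = true := by decide +kernel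

theorem rot4_3 : T.rot 4 [1, 4, 2, 4, 2, 5, 1, 2, 4, 2] (sel (ones 15) ip4 3) = true := by decide +kernel

theorem rot4_3r : band (Rule.ok (2 * 5) EX RL ⟨4 :: [1, 4, 2, 4, 2, 5, 1, 2, 4, 2], [0, 2, 6, 2], 12, true⟩) (lall (memL L) [1, 4, 2, 4, 2, 5, 1, 2, 4, 2]) = true := by decide +kernel

theorem rot4_4 : T.rot 4 [2, 4, 2, 1, 5, 2, 4, 2, 4, 1] (sel (ones 15) ip4 4) = true := by decide +kernel

theorem rot4_4r : band (Rule.ok (2 * 5) EX RL ⟨4 :: [2, 4, 2, 1, 5, 2, 4, 2, 4, 1], [0, 2, 6, 2, 6], 12, false⟩) (lall (memL L) [2, 4, 2, 1, 5, 2, 4, 2, 4, 1]) = true := by decide +kernel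

theorem rot4_5 : T.rot 4 [3, 4, 2, 3, 4, 2, 3, 4, 3, 4, 2, 4, 2, 3, 4, 3, 4, 2, 4, 3, 2] (sel (ones 15) ip4 5) = true := by decide +kernel

theorem rot4_5r : band (Rule.ok (2 * 5) EX RL ⟨4 :: [3, 4, 2, 3, 4, 2, 3, 4, 3, 4, 2, 4, 2, 3, 4, 3, 4, 2, 4, 3, 2], [6, 4, 6], 4, true⟩) (lall (memL L) [3, 4, 2, 3, 4, 2, 3, 4, 3, 4, 2, 4, 2, 3, 4, 3, 4, 2, 4, 3, 2]) = true := by decide +kernel

theorem rot4_6 : T.rot 4 [2, 3, 4, 2, 3, 4, 3, 4, 2, 4, 2, 3, 4, 3, 4, 2, 4, 3, 2, 4, 3] (sel (ones 15) ip4 6) = true := by decide +kernel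

theorem rot4_6r : band (Rule.ok (2 * 5) EX RL ⟨4 :: [2, 3, 4, 2, 3, 4, 3, 4, 2, 4, 2, 3, 4, 3, 4, 2, 4, 3, 2, 4, 3], [6], 4, true⟩) (lall (memL L) [2, 3, 4, 2, 3, 4, 3, 4, 2, 4, 2, 3, 4, 3, 4, 2, 4, 3, 2, 4, 3]) = true := by decide +kernel

theorem ep1a : T.treePath [1, 3] (Nat.shiftLeft 1 2) 1 = true := by decide +kernel

theorem ep1b : T.treePath [1, 3] (Nat.shiftLeft 1 2) 1 = true := by decide +kernel

theorem ep1c : band (lall (fun z => Nat.ble z 255) ([1, 3] ++ 4 :: [3, 1])) (concl F IV 142 0x400006000fe0000100000005 (encA ([1, 3] ++ 4 :: [3, 1]) 0)) = true := by decide +kernel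

theorem ep1d : band (Rule.ok (2 * 5) EX [] ⟨lapp [1, 3] [3, 1], [], 0, false⟩) (band (lall (memL L) [1, 3]) (lall (memL L) [1, 3])) = true := by decide +kernel

theorem ep2a : T.treePath [1, 3, 2, 3] (Nat.shiftLeft 1 6) 1 = true := by decide +kernel

theorem ep2b : T.treePath [1, 3, 2, 5] (Nat.shiftLeft 1 8) 1 = true := by decide +kernel

theorem ep2c : band (lall (fun z => Nat.ble z 255) ([1, 3, 2, 3] ++ 4 :: [5, 2, 3, 1])) (concl F IV 142 0x400006000070000780046800014000060000100000009 (encA ([1, 3, 2, 3] ++ 4 :: [5, 2, 3, 1]) 0)) = true := by decide +kernel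

theorem ep2d : band (Rule.ok (2 * 5) EX [] ⟨lapp [1, 3, 2, 5] [5, 2, 3, 1], [], 0, false⟩) (band (lall (memL L) [1, 3, 2, 3]) (lall (memL L) [1, 3, 2, 5])) = true := by decide +kernel

theorem cov4 : T.cover 4 [(sel (ones 15) ip4 1), (sel (ones 15) ip4 2), (sel (ones 15) ip4 3), (sel (ones 15) ip4 4), (sel (ones 15) ip4 5), (sel (ones 15) ip4 6), 1, (Nat.shiftLeft 1 2), (Nat.shiftLeft 1 6)] = true := by decide +kernel

theorem tl4 : T.treeLt 4 4 = true := by decide +kernel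

theorem rot5_1 : T.rot 5 [5] (sel (ones 15) ip5 1) = true := by decide +kernel

theorem rot5_1r : band (Rule.ok (2 * 5) EX RL ⟨5 :: [5], [], 14, false⟩) (lall (memL L) [5]) = true := by decide +kernel

theorem rot5_2 : T.rot 5 [3, 2, 4, 2, 4, 2, 3] (sel (ones 15) ip5 2) = true := by decide +kernel

theorem rot5_2r : band (Rule.ok (2 * 5) EX RL ⟨5 :: [3, 2, 4, 2, 4, 2, 3], [], 11, false⟩) (lall (memL L) [3, 2, 4, 2, 4, 2, 3]) = true := by decide +kernel

theorem rot5_3 : T.rot 5 [1, 2, 4, 2, 4, 1, 4, 2, 4, 2] (sel (ones 15) ip5 3) = true := by decide +kernel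

theorem rot5_3r : band (Rule.ok (2 * 5) EX RL ⟨5 :: [1, 2, 4, 2, 4, 1, 4, 2, 4, 2], [8], 12, true⟩) (lall (memL L) [1, 2, 4, 2, 4, 1, 4, 2, 4, 2]) = true := by decide +kernel

theorem rot5_4 : T.rot 5 [2, 4, 2, 4, 1, 4, 2, 4, 2, 1] (sel (ones 15) ip5 4) = true := by decide +kernel

theorem rot5_4r : band (Rule.ok (2 * 5) EX RL ⟨5 :: [2, 4, 2, 4, 1, 4, 2, 4, 2, 1], [], 12, false⟩) (lall (memL L) [2, 4, 2, 4, 1, 4, 2, 4, 2, 1]) = true := by decide +kernel

theorem cov5 : T.cover 5 [(sel (ones 15) ip5 1), (sel (ones 15) ip5 2), (sel (ones 15) ip5 3), (sel (ones 15) ip5 4)] = true := by decide +kernel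

theorem tl5 : T.treeLt 4 5 = true := by decide +kernel

end Cfsg.Agent.Spor.C3E
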