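import Cfsg.Agent.Spor.Chk

set_option autoImplicit false
set_option maxRecDepth 100000000
set_option Elab.async false
noncomputable section

namespace Cfsg.Agent.Spor.C3E

def m0_0 : Nat := nat_lit 0x30
def m0_1 : Nat := nat_lit 0x600
def m0_2 : Nat := nat_lit 0x10
def m0_3 : Nat := nat_lit 0x41
def m0_4 : Nat := nat_lit 0x10
def m0_5 : Nat := nat_lit 0x30
def n0 : Net := Net.cons 8 m0_0 (Net.cons 4 m0_1 (Net.cons 2 m0_2 (Net.cons 1 m0_3 (Net.cons 2 m0_4 (Net.cons 8 m0_5 (Net.nil))))))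

def m1_0 : Nat := nat_lit 0x14
def m1_1 : Nat := nat_lit 0x702
def m1_2 : Nat := nat_lit 0x101
def m1_3 : Nat := nat_lit 0x1101
def m1_4 : Nat := nat_lit 0x1001
def m1_5 : Nat := nat_lit 0x2
def m1_6 : Nat := nat_lit 0x14
def n1 : Net := Net.cons 8 m1_0 (Net.cons 4 m1_1 (Net.cons 2 m1_2 (Net.cons 1 m1_3 (Net.cons 2 m1_4 (Net.cons 4 m1_5 (Net.cons 8 m1_6 (Net.nil)))))))

def m2_0 : Nat := nat_lit 0x80
def m2_1 : Nat := nat_lit 0xd08
def m2_2 : Nat := nat_lit 0x1131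
def m2_3 : Nat := nat_lit 0x1
def m2_4 : Nat := nat_lit 0x1
def m2_5 : Nat := nat_lit 0x8
def m2_6 : Nat := nat_lit 0x80
def n2 : Net := Net.cons 8 m2_0 (Net.cons 4 m2_1 (Net.cons 2 m2_2 (Net.cons 1 m2_3 (Net.cons 2 m2_4 (Net.cons 4 m2_5 (Net.cons 8 m2_6 (Net.nil)))))))

def m3_0 : Nat := nat_lit 0x1
def m3_1 : Nat := nat_lit 0x204
def m3_2 : Nat := nat_lit 0x1013
def m3_3 : Nat := nat_lit 0x440
def m3_4 : Nat := nat_lit 0x10
def m3_5 : Nat := nat_lit 0x4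
def m3_6 : Nat := nat_lit 0x1
def n3 : Net := Net.cons 8 m3_0 (Net.cons 4 m3_1 (Net.cons 2 m3_2 (Net.cons 1 m3_3 (Net.cons 2 m3_4 (Net.cons 4 m3_5 (Net.cons 8 m3_6 (Net.nil)))))))

def m4_0 : Nat := nat_lit 0x18
def m4_1 : Nat := nat_lit 0x504
def m4_2 : Nat := nat_lit 0x10
def m4_3 : Nat := nat_lit 0x44
def m4_4 : Nat := nat_lit 0x10
def m4_5 : Nat := nat_lit 0x4
def m4_6 : Nat := nat_lit 0x18
def n4 : Net := Net.cons 8 m4_0 (Net.cons 4 m4_1 (Net.cons 2 m4_2 (Net.cons 1 m4_3 (Net.cons 2 m4_4 (Net.cons 4 m4_5 (Net.cons 8 m4_6 (Net.nil)))))))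

def ip1 : List Nat := [0x1e4e, 0x6418, 0x494c]
def l1 : Let := ⟨0, false, 0x7fff, 0x1202, [0x1a5a, 0x654c, 0x50, 0x6d00]⟩

def ip2 : List Nat := [0x6690, 0xac0, 0x4a08, 0x1000]
def l2 : Let := ⟨1, false, 0x7fff, 0x2410, [0x6610, 0x1848, 0x1880, 0x4200]⟩

def ip3 : List Nat := [0x46e4, 0x1c80, 0x2200]
def l3 : Let := ⟨2, false, 0x7fff, 0x4064, [0x7ce4, 0x1400, 0x1e80, 0x2000]⟩

def ip4 : List Nat := [0x2588, 0x7820, 0xe00]
def l4 : Let := ⟨3, false, 0x7fff, 0x88, [0x188, 0xc20, 0xc00, 0x7200]⟩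

def ip5 : List Nat := [0x98a, 0x66af, 0x1000]
def l5 : Let := ⟨4, false, 0x7fff, 0x900, [0x19a7, 0x6626, 0x1088, 0x6600]⟩

def F : Nat := nat_lit 0x804000060000800000450000d040000c00009020000d0004603000460000904000460000601000060000a030000c0000a040000b0000903000090000b020000b0000c05000070000b030000700005040000500002040000200002000003000001000003200003000003500005000003b0000a00000400003b02000400004000000410000b020000b0000b040000a0004304000440003f030004200035020003500035000003a00005040003b00034050003900007030003800034030000b00034020003400004010000400007020000700003050000300002050000200003010000300001050000100003020000300006020000600001020000100001000000e00003000001000003000001500001000002100000000002d0001502000150001500000200001e000002c0001e040002400024000002b00028010002f0002e040002700026010002e00015010001e0001e000001f00015000002900028040002a0002502000260001c0100023000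11010001300013000001600011000001a00019040001b0000302000100000f020000f00000050000000002010000200000040000000000030000000000020000000046020004500045040000600044020003e00043030003d00042040003c00041020003b0004003000390003f02000380003e03000370003d02000370003c03000360003b03000350003a02000350003901000340003805000330003704000330003602000330003504000320003404000310003303000310003203000300003102000300003004000020002f04000220002e02000220002d01000210002c01000200002b040001e0002a020001e00029010001e00028020001d00027010001d00026040001c00025010001b0002401000190002304000180002201000170002104000150002002000150001f01000150001e05000140001d04000140001c02000140001b02000130001a010001300019020001200018010001200017020001100016010001100015050001000014010001000013050000f00012040000f00011050000e00010040000e0000f010000e0000e02000010000d03000080000c01000070000b05000060000a0200005000090100005000080500004000070400004000060300004000050300003000040200002000030400001000020300001000010100000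

def rt0_10 : RTree := RTree.node 0x201020102010201 ⟨[2, 1, 2, 1, 2, 1, 2, 1], [], 6, true⟩ (RTree.node 0x303 ⟨[3, 3], [], 14, false⟩ (RTree.node 0x202 ⟨[2, 2], [], 14, false⟩ (RTree.node 0x101 ⟨[1, 1], [], 14, false⟩ (RTree.leaf) (RTree.leaf)) (RTree.leaf)) (RTree.node 0x102010201020102 ⟨[1, 2, 1, 2, 1, 2, 1, 2], [], 6, false⟩ (RTree.node 0x404 ⟨[4, 4], [], 14, false⟩ (RTree.leaf) (RTree.leaf)) (RTree.leaf))) (RTree.node 0x204020402030503 ⟨[2, 4, 2, 4, 2, 3, 5, 3], [4], 11, true⟩ (RTree.node 0x204020305030204 ⟨[2, 4, 2, 3, 5, 3, 2, 4], [4, 2, 6], 11, true⟩ (RTree.node 0x203020302030203 ⟨[2, 3, 2, 3, 2, 3, 2, 3], [], 0, false⟩ (RTree.leaf) (RTree.leaf)) (RTree.leaf)) (RTree.node 0x302040204020305 ⟨[3, 2, 4, 2, 4, 2, 3, 5], [], 11, true⟩ (RTree.leaf) (RTree.leaf)))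
def rt11_20 : RTree := RTree.node 0x401040204020501020402 ⟨[4, 1, 4, 2, 4, 2, 5, 1, 2, 4, 2], [0, 2, 6, 2], 12, true⟩ (RTree.node 0x104020402050102040204 ⟨[1, 4, 2, 4, 2, 5, 1, 2, 4, 2, 4], [0, 2, 6, 2, 6], 12, true⟩ (RTree.node 0x503020402040203 ⟨[5, 3, 2, 4, 2, 4, 2, 3], [], 11, false⟩ (RTree.node 0x403040304030403 ⟨[4, 3, 4, 3, 4, 3, 4, 3], [], 2, true⟩ (RTree.leaf) (RTree.leaf)) (RTree.leaf)) (RTree.node 0x204010402040205010204 ⟨[2, 4, 1, 4, 2, 4, 2, 5, 1, 2, 4], [0, 2, 6], 12, true⟩ (RTree.leaf) (RTree.leaf))) (RTree.node 0x502040204010402040201 ⟨[5, 2, 4, 2, 4, 1, 4, 2, 4, 2, 1], [], 12, false⟩ (RTree.node 0x501020402040104020402 ⟨[5, 1, 2, 4, 2, 4, 1, 4, 2, 4, 2], [8], 12, true⟩ (RTree.node 0x402040104020402010502 ⟨[4, 2, 4, 1, 4, 2, 4, 2, 1, 5, 2], [8, 2], 12, false⟩ (RTree.leaf) (RTree.leaf)) (RTree.leaf)) (RTree.node 0x20402040204020402040204 ⟨[2, 4, 2, 4, 2,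 4, 2, 4, 2, 4, 2, 4], [], 1, false⟩ (RTree.leaf) (RTree.leaf)))
def rt0_20 : RTree := RTree.node 0x305030204020402 ⟨[3, 5, 3, 2, 4, 2, 4, 2], [4], 11, false⟩ (rt0_10) (rt11_20)
def rt21_31 : RTree := RTree.node 0x103010204030403020403040302030103 ⟨[1, 3, 1, 2, 4, 3, 4, 3, 2, 4, 3, 4, 3, 2, 3, 1, 3], [0, 4, 0], 13, true⟩ (RTree.node 0x20302040203020304020302030403 ⟨[2, 3, 2, 4, 2, 3, 2, 3, 4, 2, 3, 2, 3, 4, 3], [6, 2, 4, 2], 3, true⟩ (RTree.node 0x204010402010201040104010201 ⟨[2, 4, 1, 4, 2, 1, 2, 1, 4, 1, 4, 1, 2, 1], [0, 2, 0], 8, true⟩ (RTree.node 0x102010204010402010201040104 ⟨[1, 2, 1, 2, 4, 1, 4, 2, 1, 2, 1, 4, 1, 4], [], 8, true⟩ (RTree.leaf) (RTree.leaf)) (RTree.leaf)) (RTree.node 0x40203020304020302030403020302 ⟨[4, 2, 3, 2, 3, 4, 2, 3, 2, 3, 4, 3, 2, 3, 2], [6], 3, true⟩ (RTree.node 0x30203020402030203040203020304 ⟨[3, 2, 3, 2, 4, 2, 3, 2, 3, 4, 2, 3, 2, 3, 4],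 [6, 2, 4, 2, 4], 3, true⟩ (RTree.leaf) (RTree.leaf)) (RTree.leaf))) (RTree.node 0x304030402010301030103020304030402 ⟨[3, 4, 3, 4, 2, 1, 3, 1, 3, 1, 3, 2, 3, 4, 3, 4, 2], [2, 6, 4, 6, 4], 13, false⟩ (RTree.node 0x301030102040304030204030403020301 ⟨[3, 1, 3, 1, 2, 4, 3, 4, 3, 2, 4, 3, 4, 3, 2, 3, 1], [0, 4, 0, 4], 13, true⟩ (RTree.node 0x103010302030403040203040304020103 ⟨[1, 3, 1, 3, 2, 3, 4, 3, 4, 2, 3, 4, 3, 4, 2, 1, 3], [0, 4], 13, false⟩ (RTree.leaf) (RTree.leaf)) (RTree.leaf)) (RTree.node 0x10204010204010204010204010204010204 ⟨[1, 2, 4, 1, 2, 4, 1, 2, 4, 1, 2, 4, 1, 2, 4, 1, 2, 4], [], 10, true⟩ (RTree.leaf) (RTree.leaf)))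
def rt32_41 : RTree := RTree.node 0x102010401020402010402040104020401020401040204 ⟨[1, 2, 1, 4, 1, 2, 4, 2, 1, 4, 2, 4, 1, 4, 2, 4, 1, 2, 4, 1, 4, 2, 4], [], 9, true⟩ (RTree.node 0x4020403020403040203040203040304020402030403 ⟨[4, 2, 4, 3, 2, 4, 3, 4, 2, 3, 4, 2, 3, 4, 3, 4, 2, 4, 2, 3, 4, 3], [6, 4, 6, 2, 4, 6, 2, 6], 4, true⟩ (RTree.node 0x4020304020304030402040203040304020403020403 ⟨[4, 2, 3, 4, 2, 3, 4, 3, 4, 2, 4, 2, 3, 4, 3, 4, 2, 4, 3, 2, 4, 3], [6], 4, true⟩ (RTree.node 0x3040304020402030403040204030204030402030402 ⟨[3, 4, 3, 4, 2, 4, 2, 3, 4, 3, 4, 2, 4, 3, 2, 4, 3, 4, 2, 3, 4, 2], [2, 4, 6, 2], 4, true⟩ (RTree.leaf) (RTree.leaf)) (RTree.leaf)) (RTree.node 0x4030204030402030402030403040204020304030402 ⟨[4, 3, 2, 4, 3, 4, 2, 3, 4, 2, 3, 4, 3, 4, 2, 4, 2, 3, 4, 3, 4, 2], [6, 4, 6, 2, 4, 6], 4, true⟩ (RTree.leaf) (RTree.leaf))) (RTree.node 0x201040204010402040102040104020401020104010204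 ⟨[2, 1, 4, 2, 4, 1, 4, 2, 4, 1, 2, 4, 1, 4, 2, 4, 1, 2, 1, 4, 1, 2, 4], [0, 2, 0, 6, 0, 2, 6], 9, true⟩ (RTree.node 0x201040204010402010402040104020401020402010401 ⟨[2, 1, 4, 2, 4, 1, 4, 2, 1, 4, 2, 4, 1, 4, 2, 4, 1, 2, 4, 2, 1, 4, 1], [0, 2], 9, false⟩ (RTree.node 0x102040201040204010402040102040104020401020104 ⟨[1, 2, 4, 2, 1, 4, 2, 4, 1, 4, 2, 4, 1, 2, 4, 1, 4, 2, 4, 1, 2, 1, 4], [0, 2, 0, 6], 9, true⟩ (RTree.leaf) (RTree.leaf)) (RTree.leaf)) (RTree.node 0x4030204030204030204020402030204030203040302040302 ⟨[4, 3, 2, 4, 3, 2, 4, 3, 2, 4, 2, 4, 2, 3, 2, 4, 3, 2, 3, 4, 3, 2, 4, 3, 2], [6, 4, 2, 4, 6, 4, 2, 6, 4, 2], 5, false⟩ (RTree.leaf) (RTree.leaf)))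
def rt21_41 : RTree := RTree.node 0x3040302040302040304020304020403040302040204 ⟨[3, 4, 3, 2, 4, 3, 2, 4, 3, 4, 2, 3, 4, 2, 4, 3, 4, 3, 2, 4, 2, 4], [2, 4, 6, 2, 4, 6, 4], 4, false⟩ (rt21_31) (rt32_41)
def rt0_41 : RTree := RTree.node 0x40104010401040104010401 ⟨[4, 1, 4, 1, 4, 1, 4, 1, 4, 1, 4, 1], [], 7, true⟩ (rt0_20) (rt21_41)
def RT : RTree := rt0_41

def NT : List Net := [n0, n1, n2, n3, n4]
def LT : List Let := [⟨0, false, 0, 0, []⟩, l1, l2, l3, l4, l5]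
def T : Tab := ⟨NT, LT⟩
def EX : List (List Nat) := [[], [0], [2], [4], [6], [8]]
def RL : List (List Nat) := [[2, 4, 2, 4, 2, 4, 2, 4], [2, 6, 2, 6, 2, 6, 2, 6, 2, 6, 2, 6], [4, 6, 4, 6, 4, 6, 4, 6], [6, 2, 4, 2, 4, 6, 4, 2, 4, 2, 6, 4, 2, 4, 2], [6, 4, 6, 2, 4, 6, 2, 6, 4, 6, 4, 2, 6, 2, 6, 4, 6, 4, 2, 6, 4, 2], [6, 4, 2, 4, 6, 4, 2, 6, 4, 2, 6, 4, 2, 6, 4, 2, 6, 4, 2, 6, 2, 6, 2, 4, 2], [0, 2, 0, 2, 0, 2, 0, 2], [0, 6, 0, 6, 0, 6, 0, 6, 0, 6, 0, 6], [6, 0, 6, 0, 2, 0, 2, 6, 0, 6, 2, 0, 2, 0], [6, 2, 6, 0, 6, 2, 0, 6, 2, 6, 0, 6, 2, 6, 0, 2, 6, 2, 0, 6, 0, 2, 0], [6, 2, 0, 6, 2, 0, 6, 2, 0, 6, 2, 0, 6, 2, 0, 6, 2, 0], [8, 4, 2, 6, 2, 6, 2, 4], [8, 2, 6, 2, 6, 0, 6, 2, 6, 2, 0], [0, 4, 0, 4, 0, 4, 2, 4, 6, 4, 6, 2, 4, 6, 4, 6, 2]]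
def XL : List (List Nat) := []
def BW : List (List Nat) := [[2], [4], [6]]
def IV : Nat := 0x50403020100
def L : List Nat := [1, 2, 3, 4, 5]
def gs : List Nat := [1, 2, 3, 4, 5]
def base : List Nat := [2, 3, 4]

end Cfsg.Agent.Spor.C3E
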